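import Cfsg.Agent.H35.CentralAutomizer.Basic
import Cfsg.Agent.H34.Conj
import Cfsg.Agent.H51.PMinGeneration
import Cfsg.Agent.S2999

set_option autoImplicit false

/-!
The natural `SL₂`-module statement read off a group acting with kernel on an elementary abelian
normal subgroup.
-/

namespace Cfsg.Agent.H35.CentralAutomizer

open Subgroup
open Cfsg.Agent.H34 (offNum)

variable {G : Type*} [Group G]

theorem card_map_mul_card_inf_ker {K : Type*} [Group K] (f : G →* K) (B : Subgroup G) :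
    Nat.card (B.map f) * Nat.card ↥(B ⊓ f.ker) = Nat.card B := by
  rw [card_eq_card_quotient_mul_card_subgroup (f.comp B.subtype).ker,
    Nat.card_congr (QuotientGroup.quotientKerEquivRange _).toEquiv, MonoidHom.range_comp,
    Subgroup.range_subtype]
  congr 1
  refine Nat.card_congr ⟨fun x => ⟨⟨x, x.2.1⟩, x.2.2⟩, fun y => ⟨y.1, y.1.2, y.2⟩, fun x => rfl,
    fun y => rfl⟩

open scoped MatrixGroups in
theorem natural_module [Finite G] {p : ℕ} [hp : Fact p.Prime] (W C : Subgroup G) [W.Normal] [C.Normal]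
    (hC : centralizer (W : Set G) = C) (hW : Cfsg.IsElementaryAbelian p W) (S : Subgroup G)
    (hS : IsMaxPIn p ⊤ S) (hSn : ¬(S ⊔ C).Normal) (M : Subgroup G) (hM : IsCoatom M) (hCM : C ≤ M)
    (hSM : S ≤ M) (huniq : ∀ K : Subgroup G, K ≠ ⊤ → S ≤ K → K ≤ M) (A : Subgroup G) (hAS : A ≤ S)
    (hAc : ∀ a ∈ A, ∀ b ∈ A, Commute a b) (hAp : ∀ a ∈ A, a ^ p ∈ C)
    (hi : offNum W (A ⊓ C) ≤ offNum W A)
    (strict : ∀ B : Subgroup G, A ⊓ C ≤ B → B ≤ A → ¬B ≤ C → B ≠ A → offNum W B < offNum W A)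
    (hii : ∃ w ∈ W, w ∈ centralizer (S : Set G) ∧ ∃ g : G, g * w * g⁻¹ ≠ w)
    (hiii : ∀ x ∉ M, A ⊔ cj x A ⊔ C = ⊤) :
    ∃ (F : Type) (_ : Field F) (_ : Fintype F),
      Fintype.card F = Nat.card (A.map (QuotientGroup.mk' C)) ∧
      ∃ (ρ : G →* Matrix.SpecialLinearGroup (Fin 2) F) (ψ : W →* Multiplicative (Fin 2 → F)),
        Function.Surjective ρ ∧ ρ.ker = C ∧ (∀ w : W, ψ w = 1 ↔ ∀ g : G, g * w * g⁻¹ = w) ∧
        ∀ (g : G) (w w' : W), (w' : G) = g * w * g⁻¹ →
          Multiplicative.toAdd (ψ w') = ((ρ g : Matrix.SpecialLinearGroup (Fin 2) F) :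
            Matrix (Fin 2) (Fin 2) F).mulVec (Multiplicative.toAdd (ψ w)) := by
  classical
  -- the semidirect product
  have hconj : ∀ c ∈ C, (MulAut.conjNormal c : MulAut W) = 1 := by
    intro c hc
    rw [← hC] at hc
    ext w
    rw [MulAut.conjNormal_apply, ← mem_centralizer_iff.1 hc w w.2, mul_inv_cancel_right]
    rfl
  let θ : G ⧸ C →* MulAut W := QuotientGroup.lift C MulAut.conjNormal hconj
  haveI : Finite (W ⋊[θ] (G ⧸ C)) := Finite.of_equiv _ SemidirectProduct.equivProd.symm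
  let π : G →* W ⋊[θ] (G ⧸ C) := SemidirectProduct.inr.comp (QuotientGroup.mk' C)
  let ι : W →* W ⋊[θ] (G ⧸ C) := SemidirectProduct.inl
  have hker : π.ker = C := by
    rw [MonoidHom.ker_comp_of_injective (hg := SemidirectProduct.inr_injective)]
    exact QuotientGroup.ker_mk' C
  have hact : ∀ (g : G) (w : W), π g * ι w * (π g)⁻¹ = ι (MulAut.conjNormal g w) := by
    intro g w
    have h := SemidirectProduct.inl_aut (φ := θ) (QuotientGroup.mk' C g) w
    rw [map_inv] at h
    exact h.symm.trans rfl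
  have hcomm : ∀ (g : G) (w : W), π g * ι w = ι w * π g ↔ g * (w : G) * g⁻¹ = w := by
    intro g w
    rw [← mul_inv_eq_iff_eq_mul, hact]
    constructor
    · intro h
      have := congrArg (Subtype.val) (SemidirectProduct.inl_injective h)
      rwa [MulAut.conjNormal_apply] at this
    · intro h
      exact congrArg ι (Subtype.ext (by rw [MulAut.conjNormal_apply]; exact h))
  have hfix : ∀ B : Subgroup G, ι.range ⊓ centralizer ((B.map π : Subgroup _) : Set _) =
      ((W ⊓ centralizer (B : Set G)).subgroupOf W).map ι := by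
    intro B
    apply le_antisymm
    · rintro _ ⟨⟨w, rfl⟩, hw⟩
      refine ⟨w, ⟨w.2, mem_centralizer_iff.2 fun b hb => ?_⟩, rfl⟩
      exact mul_inv_eq_iff_eq_mul.1 ((hcomm b w).1 (mem_centralizer_iff.1 hw _ ⟨b, hb, rfl⟩))
    · rintro _ ⟨w, hw, rfl⟩
      refine ⟨⟨w, rfl⟩, mem_centralizer_iff.2 ?_⟩
      rintro _ ⟨b, hb, rfl⟩
      exact (hcomm b w).2 (mul_inv_eq_iff_eq_mul.2 (mem_centralizer_iff.1 hw.2 b hb))
  have hfixcard : ∀ B : Subgroup G, Nat.card ↥(ι.range ⊓ centralizer ((B.map π : Subgroup _) : Set _)) =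
      Nat.card ↥(W ⊓ centralizer (B : Set G)) := fun B => by
    rw [hfix, card_map_of_injective SemidirectProduct.inl_injective,
      Nat.card_congr (subgroupOfEquivOfLe inf_le_left).toEquiv]
  have hWcard : Nat.card ι.range = Nat.card W :=
    (Nat.card_congr (MonoidHom.ofInjective (f := ι) SemidirectProduct.inl_injective).toEquiv).symm
  have hCf : ∀ B : Subgroup G, Nat.card (B.map π) * Nat.card ↥(B ⊓ C) = Nat.card B := fun B => by
    have := card_map_mul_card_inf_ker π B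
    rwa [hker] at this
  set P := π.range with hP
  let e : G →* P := π.rangeRestrict
  have he : Function.Surjective e := π.rangeRestrict_surjective
  have heker : e.ker = C := by rw [MonoidHom.ker_rangeRestrict, hker]
  -- the Sylow subgroup and the maximal subgroup
  let S₀ : Sylow p G := ⟨S, hS.2.1, fun {Q} hQ hle => hS.2.2 Q hQ hle le_top⟩
  let T : Sylow p P := S₀.mapSurjective he
  have hT : (T : Subgroup P) = S.map e := rfl
  have hMc : (M.map e).comap e = M := by
    rw [comap_map_eq, heker, sup_eq_left]; exact hCM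
  have hMne : M.map e ≠ ⊤ := fun h => hM.1 (by rw [← hMc, h, comap_top])
  have hup : ∀ K : Subgroup P, S.map e ≤ K → K ≠ ⊤ → K ≤ M.map e := by
    intro K hle hne
    refine fun x hx => ?_
    obtain ⟨g, rfl⟩ := he x
    refine mem_map_of_mem e (huniq (K.comap e) (fun h => hne ?_) (map_le_iff_le_comap.1 hle) hx)
    rw [← map_comap_eq_self_of_surjective he K, h, map_top_of_surjective e he]
  have hMco : IsCoatom (M.map e) := ⟨hMne, fun K hK => by_contra fun hne =>
    hK.not_ge (hup K ((map_mono hSM).trans hK.le) hne)⟩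
  have hmin : Cfsg.IsPMinimal p P := by
    refine H51.isPMinimal_of_sylow T (fun hn => hSn ?_) fun M₁ M₂ h1 h2 hle1 hle2 => ?_
    · have hn' : ((S.map e).comap e).Normal := (hT ▸ hn).comap e
      rwa [comap_map_eq, heker] at hn'
    · have key : ∀ K : Subgroup P, IsCoatom K → (T : Subgroup P) ≤ K → K = M.map e := fun K hK hle =>
        (hK.le_iff.1 (hup K hle hK.1)).resolve_left hMne |>.symm
      rw [key M₁ h1 hle1, key M₂ h2 hle2]
  have hTmap : ((T : Subgroup P).map P.subtype) = S.map π := by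
    rw [hT, map_map]; rfl
  -- the hypotheses
  have hVel : Cfsg.IsElementaryAbelian p ι.range := by
    refine ⟨⟨⟨?_⟩⟩, ?_⟩
    · rintro ⟨_, a, rfl⟩ ⟨_, b, rfl⟩
      exact Subtype.ext (show ι a * ι b = ι b * ι a by
        rw [← map_mul, ← map_mul]; exact congrArg ι (hW.1.is_comm.comm a b))
    · rintro _ ⟨w, rfl⟩
      rw [← map_pow, show w ^ p = 1 from Subtype.ext (hW.2 w w.2), map_one]
  have hPV : P ≤ normalizer (ι.range : Set _) := by
    rw [show ι.range = SemidirectProduct.rightHom.ker from SemidirectProduct.range_inl_eq_ker_rightHom,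
      normalizer_eq_top_iff.2 (MonoidHom.normal_ker _)]
    exact le_top
  have hfaith : P ⊓ centralizer (ι.range : Set _) = ⊥ := by
    rw [eq_bot_iff]
    rintro _ ⟨⟨g, rfl⟩, hg⟩
    refine mem_bot.2 (MonoidHom.mem_ker.1 ?_)
    rw [hker, ← hC, mem_centralizer_iff]
    intro w hw
    exact (mul_inv_eq_iff_eq_mul.1 ((hcomm g ⟨w, hw⟩).1
      (mem_centralizer_iff.1 hg _ ⟨_, rfl⟩).symm)).symm
  have hAT : A.map π ≤ (T : Subgroup P).map P.subtype := hTmap ▸ map_mono hAS
  have hAel : Cfsg.IsElementaryAbelian p (A.map π) := by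
    refine ⟨⟨⟨?_⟩⟩, ?_⟩
    · rintro ⟨_, a, ha, rfl⟩ ⟨_, b, hb, rfl⟩
      exact Subtype.ext ((hAc a ha b hb).map π).eq
    · rintro _ ⟨a, ha, rfl⟩
      rw [← map_pow, ← MonoidHom.mem_ker, hker]
      exact hAp a ha
  have hpos : 0 < Nat.card ↥(A ⊓ C) := Nat.card_pos
  have hiΓ : Nat.card ι.range ≤
      Nat.card (A.map π) * Nat.card ↥(ι.range ⊓ centralizer ((A.map π : Subgroup _) : Set _)) := by
    rw [hWcard, hfixcard]
    refine Nat.le_of_mul_le_mul_left (le_trans ?_ hi |>.trans ?_) hpos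
    · refine Nat.mul_le_mul_left _ (card_le_of_le (le_inf le_rfl ?_))
      rw [le_centralizer_iff, hC]
      exact inf_le_right
    · exact le_of_eq (by rw [offNum, ← hCf A]; ring)
  have hstrict : ∀ A₀ : Subgroup (W ⋊[θ] (G ⧸ C)), A₀ ≤ A.map π → A₀ ≠ ⊥ → A₀ ≠ A.map π →
      Nat.card A₀ * Nat.card ↥(ι.range ⊓ centralizer (A₀ : Set _)) <
      Nat.card (A.map π) * Nat.card ↥(ι.range ⊓ centralizer ((A.map π : Subgroup _) : Set _)) := by
    intro A₀ hle hne hne'
    set B := A ⊓ A₀.comap π with hB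
    have hBm : B.map π = A₀ := by
      refine le_antisymm ((map_mono inf_le_right).trans (map_comap_le _ _)) fun x hx => ?_
      obtain ⟨a, ha, rfl⟩ := hle hx
      exact ⟨a, ⟨ha, hx⟩, rfl⟩
    have hCB : A ⊓ C ≤ B := le_inf inf_le_left (inf_le_right.trans ((le_of_eq hker.symm).trans (ker_le_comap π A₀)))
    have hs := strict B hCB inf_le_left
      (fun h => hne (by rw [← hBm, Subgroup.map_eq_bot_iff, hker]; exact h)) (fun h => hne' (by rw [← hBm, h]))
    have hBC : B ⊓ C = A ⊓ C := le_antisymm (inf_le_inf_right _ inf_le_left) (le_inf hCB inf_le_right)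
    rw [offNum, offNum, ← hCf A, ← hCf B, hBC] at hs
    rw [← hBm, hfixcard, hfixcard]
    refine Nat.lt_of_mul_lt_mul_left (a := Nat.card ↥(A ⊓ C)) ?_
    calc _ = Nat.card (B.map π) * Nat.card ↥(A ⊓ C) * Nat.card ↥(W ⊓ centralizer (B : Set G)) := by ring
      _ < _ := hs
      _ = _ := by ring
  have hiiΓ : ⁅ι.range ⊓ centralizer ((((T : Subgroup P).map P.subtype) : Subgroup _) : Set _), P⁆ ≠ ⊥ := by
    obtain ⟨w, hw, hwS, g, hg⟩ := hii
    intro hbot
    refine hg ((hcomm g ⟨w, hw⟩).1 ?_)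
    have hmem : ι ⟨w, hw⟩ ∈ ι.range ⊓ centralizer ((S.map π : Subgroup _) : Set _) := by
      rw [hfix]
      exact ⟨⟨w, hw⟩, ⟨hw, hwS⟩, rfl⟩
    rw [← hTmap] at hmem
    exact mem_centralizer_iff.1 (commutator_eq_bot_iff_le_centralizer.1 hbot hmem) _ ⟨g, rfl⟩
  have hiiiΓ : ∀ x : P, x ∉ M.map e → A.map π ⊔ (A.map π).map (MulAut.conj (x : W ⋊[θ] (G ⧸ C))).toMonoidHom = P := by
    intro x hx
    obtain ⟨g, rfl⟩ := he x
    have h := congrArg (Subgroup.map π) (hiii g fun hg => hx (mem_map_of_mem e hg))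
    rw [Subgroup.map_sup, Subgroup.map_sup, (Subgroup.map_eq_bot_iff C).2 hker.ge, sup_bot_eq,
      ← MonoidHom.range_eq_map, map_map] at h
    rw [map_map, show (MulAut.conj ((e g : P) : W ⋊[θ] (G ⧸ C))).toMonoidHom.comp π =
      π.comp (MulAut.conj g).toMonoidHom from MonoidHom.ext fun a =>
        show π g * π a * (π g)⁻¹ = π (g * a * g⁻¹) by rw [map_mul, map_mul, map_inv]]
    exact h
  obtain ⟨F, iF, iFin, hcard, ⟨iso⟩, -, -, -, ρ₀, ψ₀, hρ₀, hψ₀, hψ₁, heq⟩ :=
    S2999.result ι.range P hVel hPV hfaith hmin T (M.map e) hMco (map_mono hSM) (A.map π) hAT hAel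
      ⟨hiΓ, hstrict⟩ hiiΓ hiiiΓ
  have hρsurj : Function.Surjective ρ₀ := MonoidHom.range_eq_top.1 hρ₀
  have hρbij : Function.Bijective ρ₀ :=
    (Nat.bijective_iff_surjective_and_card ρ₀).2 ⟨hρsurj, Nat.card_congr iso.toEquiv⟩
  refine ⟨F, iF, iFin, hcard.trans ?_, ρ₀.comp e,
    ψ₀.comp ι.rangeRestrict, hρsurj.comp he, ?_, fun w => ?_, fun g w w' hw => ?_⟩
  · rw [← map_map]
    exact card_map_of_injective SemidirectProduct.inr_injective
  · rw [MonoidHom.ker_comp_of_injective (hg := hρbij.1), heker]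
  · rw [MonoidHom.comp_apply, hψ₁]
    constructor
    · intro h g
      exact (hcomm g w).1 (mem_centralizer_iff.1 h.2 _ ⟨g, rfl⟩)
    · refine fun h => ⟨⟨w, rfl⟩, mem_centralizer_iff.2 ?_⟩
      rintro _ ⟨g, rfl⟩
      exact (hcomm g w).2 (h g)
  · obtain ⟨u, hu, hu'⟩ := heq (e g) (ι.rangeRestrict w)
    have : ι.rangeRestrict w' = u := by
      refine Subtype.ext ?_
      rw [hu]
      refine Eq.trans ?_ (hact g w).symm
      exact congrArg ι (Subtype.ext (by rw [MulAut.conjNormal_apply]; exact hw))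
    simp only [MonoidHom.comp_apply, this]
    exact hu'

end Cfsg.Agent.H35.CentralAutomizer
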