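import Cfsg.Agent.H35.CentralAutomizer.Offender
import Cfsg.Agent.H35.CentralAutomizer.Module

set_option autoImplicit false

/-!
In the minimal group an element of order prime to `p` normalises `T` and is transitive on the
non-identity elements of a subgroup containing its commutators with `T`.
-/

namespace Cfsg.Agent.H35.CentralAutomizer

open Subgroup Matrix
open Cfsg.Agent.H34 (offNum)

variable {G : Type*} [Group G]

/-- The conclusion: an element acting as a multiplicative generator on a line. -/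
def HasLineElement (p : ℕ) (H T : Subgroup G) : Prop :=
  ∃ d ∈ H, d ∈ normalizer (T : Set G) ∧ (orderOf d).Coprime p ∧ (∃ t ∈ T, d * t * d⁻¹ ≠ t) ∧
    ∃ U : Subgroup G, (∀ t ∈ T, d * t * d⁻¹ * t⁻¹ ∈ U) ∧
      ∀ a ∈ U, ∀ b ∈ U, a ∈ T → b ∈ T → a ≠ 1 → b ≠ 1 → ∃ i : ℕ, d ^ i * a * (d ^ i)⁻¹ = b

/-- A line of a two-dimensional space, its stabiliser in `SL₂` and a torus element scaling it. -/
theorem line_data {F : Type*} [Field F] [Fintype F] {v₀ : Fin 2 → F} (hv₀ : v₀ ≠ 0) :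
    ({u : Matrix.SpecialLinearGroup (Fin 2) F | (u : Matrix (Fin 2) (Fin 2) F) *ᵥ v₀ = v₀}.ncard ≤
        Fintype.card F) ∧
    (∀ v : Fin 2 → F, (∀ u : Matrix.SpecialLinearGroup (Fin 2) F,
      (u : Matrix (Fin 2) (Fin 2) F) *ᵥ v₀ = v₀ → (u : Matrix (Fin 2) (Fin 2) F) *ᵥ v = v) →
        ∃ α : F, v = α • v₀) ∧
    ∀ l : Fˣ, ∃ δ : Matrix.SpecialLinearGroup (Fin 2) F,
      (δ : Matrix (Fin 2) (Fin 2) F) *ᵥ v₀ = (l : F) • v₀ ∧ δ ^ (Fintype.card F - 1) = 1 := by
  classical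
  obtain ⟨g, hg⟩ : ∃ g : Matrix.SpecialLinearGroup (Fin 2) F,
      (g : Matrix (Fin 2) (Fin 2) F) *ᵥ ![1, 0] = v₀ := by
    by_cases ha : v₀ 0 = 0
    · have hb : v₀ 1 ≠ 0 := fun hb => hv₀ (funext fun i => by fin_cases i <;> simp [ha, hb])
      refine ⟨⟨!![0, -(v₀ 1)⁻¹; v₀ 1, 0], by simp [det_fin_two, hb]⟩, ?_⟩
      funext i; fin_cases i <;> simp [mulVec, dotProduct, ha]
    · refine ⟨⟨!![v₀ 0, 0; v₀ 1, (v₀ 0)⁻¹], by simp [det_fin_two, ha]⟩, ?_⟩
      funext i; fin_cases i <;> simp [mulVec, dotProduct]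
  have hgi : ((g⁻¹ : Matrix.SpecialLinearGroup (Fin 2) F) : Matrix (Fin 2) (Fin 2) F) *ᵥ v₀ = ![1, 0] := by
    rw [← hg, mulVec_mulVec, ← Matrix.SpecialLinearGroup.coe_mul, inv_mul_cancel,
      Matrix.SpecialLinearGroup.coe_one, one_mulVec]
  have hcomp : ∀ (a b : Matrix.SpecialLinearGroup (Fin 2) F) (v : Fin 2 → F),
      (((a * b : Matrix.SpecialLinearGroup (Fin 2) F)) : Matrix (Fin 2) (Fin 2) F) *ᵥ v =
      (a : Matrix (Fin 2) (Fin 2) F) *ᵥ ((b : Matrix (Fin 2) (Fin 2) F) *ᵥ v) := fun a b v => by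
    rw [Matrix.SpecialLinearGroup.coe_mul, mulVec_mulVec]
  refine ⟨?_, fun v hv => ?_, fun l => ?_⟩
  · rw [← Nat.card_eq_fintype_card, ← Nat.card_coe_set_eq]
    refine Nat.card_le_card_of_injective
      (fun u => ((g⁻¹ * u.1 * g : Matrix.SpecialLinearGroup (Fin 2) F) : Matrix (Fin 2) (Fin 2) F) 0 1) ?_
    rintro ⟨u, hu⟩ ⟨u', hu'⟩ heq
    have key : ∀ x : Matrix.SpecialLinearGroup (Fin 2) F, (x : Matrix (Fin 2) (Fin 2) F) *ᵥ v₀ = v₀ →
        ((g⁻¹ * x * g : Matrix.SpecialLinearGroup (Fin 2) F) : Matrix (Fin 2) (Fin 2) F) 0 0 = 1 ∧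
        ((g⁻¹ * x * g : Matrix.SpecialLinearGroup (Fin 2) F) : Matrix (Fin 2) (Fin 2) F) 1 0 = 0 ∧
        ((g⁻¹ * x * g : Matrix.SpecialLinearGroup (Fin 2) F) : Matrix (Fin 2) (Fin 2) F) 1 1 = 1 := by
      intro x hx
      set y := g⁻¹ * x * g
      have hy : (y : Matrix (Fin 2) (Fin 2) F) *ᵥ ![1, 0] = ![1, 0] := by
        rw [hcomp, hcomp, hg, hx, hgi]
      have h0 := congrFun hy 0
      have h1 := congrFun hy 1
      simp [mulVec, dotProduct] at h0 h1
      have hd := y.2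
      rw [det_fin_two, h0, h1, one_mul, mul_zero, sub_zero] at hd
      exact ⟨h0, h1, hd⟩
    obtain ⟨a1, a2, a3⟩ := key u hu
    obtain ⟨b1, b2, b3⟩ := key u' hu'
    have : g⁻¹ * u * g = g⁻¹ * u' * g := by
      refine Subtype.ext (Matrix.ext fun i j => ?_)
      fin_cases i <;> fin_cases j
      · exact a1.trans b1.symm
      · exact heq
      · exact a2.trans b2.symm
      · exact a3.trans b3.symm
    exact Subtype.ext (mul_left_cancel (mul_right_cancel this))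
  · let t : Matrix.SpecialLinearGroup (Fin 2) F := ⟨!![1, 1; 0, 1], by simp [det_fin_two]⟩
    have ht : (t : Matrix (Fin 2) (Fin 2) F) *ᵥ ![1, 0] = ![1, 0] := by
      funext i; fin_cases i <;> simp [t, mulVec, dotProduct]
    have hu : ((g * t * g⁻¹ : Matrix.SpecialLinearGroup (Fin 2) F) : Matrix (Fin 2) (Fin 2) F) *ᵥ v₀ = v₀ := by
      rw [hcomp, hcomp, hgi, ht, hg]
    have h := congrArg (((g⁻¹ : Matrix.SpecialLinearGroup (Fin 2) F) : Matrix (Fin 2) (Fin 2) F) *ᵥ ·)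
      (hv _ hu)
    simp only [hcomp] at h
    rw [← hcomp, inv_mul_cancel, Matrix.SpecialLinearGroup.coe_one, one_mulVec] at h
    set w := ((g⁻¹ : Matrix.SpecialLinearGroup (Fin 2) F) : Matrix (Fin 2) (Fin 2) F) *ᵥ v
    have h0 := congrFun h 0
    simp [t, mulVec, dotProduct] at h0
    refine ⟨w 0, ?_⟩
    rw [← hg, ← mulVec_smul]
    have hw : w 0 • (![1, 0] : Fin 2 → F) = w := by
      funext i; fin_cases i <;> simp [h0]
    rw [hw, ← hcomp, mul_inv_cancel, Matrix.SpecialLinearGroup.coe_one, one_mulVec]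
  · let D : Matrix.SpecialLinearGroup (Fin 2) F :=
      ⟨!![(l : F), 0; 0, (l : F)⁻¹], by simp [det_fin_two]⟩
    refine ⟨g * D * g⁻¹, ?_, ?_⟩
    · have hD : (D : Matrix (Fin 2) (Fin 2) F) *ᵥ ![1, 0] = (l : F) • ![1, 0] := by
        funext i; fin_cases i <;> simp [D, mulVec, dotProduct]
      rw [hcomp, hcomp, hgi, hD, mulVec_smul, hg]
    · rw [conj_pow]
      have hpow : ∀ n : ℕ, ((D ^ n : Matrix.SpecialLinearGroup (Fin 2) F) : Matrix (Fin 2) (Fin 2) F) =
          !![(l : F) ^ n, 0; 0, ((l : F)⁻¹) ^ n] := by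
        intro n
        induction n with
        | zero =>
          rw [pow_zero, Matrix.SpecialLinearGroup.coe_one]
          ext i j; fin_cases i <;> fin_cases j <;> simp
        | succ n ih =>
          rw [pow_succ, Matrix.SpecialLinearGroup.coe_mul, ih]
          ext i j; fin_cases i <;> fin_cases j <;> simp [D, Matrix.mul_apply, pow_succ]
      have h1 : D ^ (Fintype.card F - 1) = 1 := by
        refine Subtype.ext ?_
        rw [hpow, Matrix.SpecialLinearGroup.coe_one, inv_pow,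
          FiniteField.pow_card_sub_one_eq_one _ l.ne_zero, inv_one]
        ext i j; fin_cases i <;> fin_cases j <;> simp
      rw [h1, mul_one, mul_inv_cancel]

variable {p : ℕ} [hp : Fact p.Prime] [Finite G] {S T V : Subgroup G}

theorem mem_zpowers_pow {G : Type*} [Group G] {x : G} {k : ℕ} (hk : k.Coprime (orderOf x)) :
    x ∈ zpowers (x ^ k) := by
  obtain ⟨m, hm⟩ := exists_pow_eq_self_of_coprime hk
  exact ⟨m, (zpow_natCast _ m).trans hm⟩

theorem MinSetup.exists_norm (h : MinSetup p S T V) {A : Subgroup G} (hA : IsMinMember S T A)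
    {t : G} (ht : t ∈ T) :
    ∃ k : ℕ, k.Coprime (orderOf t) ∧ ∃ z ∈ omega p T, z ∈ centralizer (S : Set G) ∧
      ∀ x : G, Commute x (z * t ^ k) := by
  classical
  set V₁ := normalClosure (T : Set G)
  letI : CommGroup V₁ :=
    { (inferInstance : Group V₁) with
      mul_comm := fun a b => Subtype.ext (h.hVc a (h.nc_le a.2) b (h.nc_le b.2)).eq }
  have hmem : ∀ g : G, g * t * g⁻¹ ∈ V₁ :=
    fun g => normalClosure_normal.conj_mem t (subset_normalClosure ht) g
  let f : G ⧸ S → V₁ := fun q => Quotient.liftOn' q (fun g => ⟨g * t * g⁻¹, hmem g⟩) fun a b hab => by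
    rw [QuotientGroup.leftRel_apply] at hab
    apply Subtype.ext
    show a * t * a⁻¹ = b * t * b⁻¹
    have hc := mem_centralizer_iff.1 (h.hTC hab) t ht
    calc a * t * a⁻¹ = a * (t * (a⁻¹ * b)) * b⁻¹ := by group
      _ = a * (a⁻¹ * b * t) * b⁻¹ := by rw [hc]
      _ = b * t * b⁻¹ := by group
  letI : Fintype (G ⧸ S) := Fintype.ofFinite _
  set n : V₁ := ∏ q, f q with hn
  have hcent : ∀ x : G, Commute x (n : G) := by
    intro x
    have h1 : (MulAut.conjNormal x : MulAut V₁) n = n := by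
      rw [hn, map_prod]
      refine Fintype.prod_equiv (MulAction.toPerm x) _ _ fun q => ?_
      induction q using QuotientGroup.induction_on with
      | _ g =>
        apply Subtype.ext
        rw [MulAut.conjNormal_apply]
        show x * (g * t * g⁻¹) * x⁻¹ = x * g * t * (x * g)⁻¹
        group
    have := congrArg Subtype.val h1
    rw [MulAut.conjNormal_apply] at this
    exact mul_inv_eq_iff_eq_mul.1 this
  have hk : ¬p ∣ S.index := by
    let S₀ : Sylow p G := ⟨S, h.hS.2.1, fun {Q} hQ hle => h.hS.2.2 Q hQ hle le_top⟩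
    exact S₀.not_dvd_index
  set k := S.index with hk'
  refine ⟨k, ?_, (n : G) * (t ^ k)⁻¹, ?_, ?_, fun x => by rw [inv_mul_cancel_right]; exact hcent x⟩
  · obtain ⟨j, hj⟩ := h.hS.2.1 ⟨t, h.hTS ht⟩
    refine Nat.Coprime.coprime_dvd_right (orderOf_dvd_of_pow_eq_one (congrArg Subtype.val hj)) ?_
    exact (Nat.Coprime.pow_right _ ((hp.out.coprime_iff_not_dvd.2 hk).symm))
  · let t₁ : V₁ := ⟨t, subset_normalClosure ht⟩
    have hprod : n * (t₁ ^ k)⁻¹ ∈ (omega p T).subgroupOf V₁ := by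
      rw [hn, hk', Subgroup.index_eq_card, Nat.card_eq_fintype_card, ← inv_pow, ← Finset.card_univ,
        ← Finset.prod_const, ← Finset.prod_mul_distrib]
      refine prod_mem fun q _ => ?_
      induction q using QuotientGroup.induction_on with
      | _ g => exact hA.comm_mem_omega h g (subset_normalClosure ht)
    exact hprod
  · refine mem_centralizer_iff.2 fun s hs => ?_
    have h1 : Commute s (n : G) := hcent s
    have h2 : Commute s t := (mem_centralizer_iff.1 (h.hTC hs) t ht).symm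
    exact (h1.mul_right (h2.pow_right k).inv_right).eq

theorem MinSetup.central_noncentral (h : MinSetup p S T V) {A : Subgroup G} (hA : IsMinMember S T A) :
    ∃ w ∈ omega p T, w ∈ centralizer (S : Set G) ∧ ∃ g : G, g * w * g⁻¹ ≠ w := by
  by_contra hcon
  push Not at hcon
  refine h.hne (eq_top_iff.2 fun g _ => centralizer_le_normalizer _ (mem_centralizer_iff.2 fun t ht => ?_))
  obtain ⟨k, hk, z, hz, hzS, hzk⟩ := h.exists_norm hA ht
  have h1 : Commute g z := mul_inv_eq_iff_eq_mul.1 (hcon z hz hzS g)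
  have h2 : Commute g (t ^ k) := by simpa using h1.inv_right.mul_right (hzk g)
  obtain ⟨i, hi⟩ := mem_zpowers_pow hk
  rw [← hi]
  exact (h2.zpow_right i).eq.symm

theorem MinSetup.hasLineElement (h : MinSetup p S T V) (hodd : p ≠ 2) : HasLineElement p ⊤ T := by
  classical
  obtain ⟨A, hA⟩ := h.exists_isMinMember
  set W := omega p T with hWdef
  set C := ker0 T with hCdef
  set M := normalizer (T : Set G) with hMdef
  have hWV := omega_le p T
  have hC : centralizer (W : Set G) = C := h.centralizer_omega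
  have hWel : Cfsg.IsElementaryAbelian p W :=
    ⟨⟨⟨fun a b => Subtype.ext (h.hVc a (h.nc_le (hWV a.2)) b (h.nc_le (hWV b.2))).eq⟩⟩,
      fun a ha => (h.mem_omega.1 ha).2⟩
  have hWS : W ≤ S := h.le_S hWV
  have hWc : ∀ a ∈ W, ∀ b ∈ W, Commute a b := fun a ha b hb =>
    h.hVc a (h.nc_le (hWV ha)) b (h.nc_le (hWV hb))
  have hSn : ¬(S ⊔ C).Normal := fun hn => by
    haveI := hn
    have := h.normal_eq_ker0 (K := S ⊔ C) le_sup_right
      (sup_le ((le_inf le_rfl le_sup_left).trans le_sup_left) le_sup_right)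
    exact hA.hAC (hA.hA.1.trans (le_sup_left.trans this.le))
  obtain ⟨F, iF, iFin, hq, ρ, ψ, hρ, hρC, hψ, heq⟩ := natural_module W C hC hWel S h.hS hSn M
    h.isCoatom (ker0_le_normalizer T) h.le_M (fun K hK hSK => h.le_of_sylow_le hK hSK) A hA.hA.1
    hA.hA.2.1 (fun a ha => hA.pow_mem h ha) (hA.offNum_le h hWS hWc inf_le_left).1
    (fun B hCB hB hBC hne => hA.strict h hWV hWS hB hCB hne hBC)
    (h.central_noncentral hA) (fun x hx => h.gen hA.hA hA.hAC hx)
  -- the order of the field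
  have hker : ∀ B : Subgroup G, Nat.card (B.map ρ) = Nat.card (B.map (QuotientGroup.mk' C)) := by
    intro B
    refine Nat.eq_of_mul_eq_mul_right (Nat.card_pos : 0 < Nat.card ↥(B ⊓ C)) ?_
    have h1 := card_map_mul_card_inf_ker ρ B
    have h2 := card_map_mul_card_inf_ker (QuotientGroup.mk' C) B
    rw [hρC] at h1
    rw [QuotientGroup.ker_mk'] at h2
    rw [h1, h2]
  obtain ⟨f, hf⟩ : ∃ f, Fintype.card F = p ^ f := by
    obtain ⟨f, hf⟩ := IsPGroup.iff_card.1
      (((h.hS.2.1.to_le hA.hA.1)).map (QuotientGroup.mk' C))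
    exact ⟨f, hq.trans hf⟩
  have hf0 : f ≠ 0 := by
    rintro rfl
    exact absurd (Fintype.one_lt_card (α := F)) (by rw [hf, pow_zero]; omega)
  have hqcop : p.Coprime (Fintype.card F - 1) := by
    rw [hp.out.coprime_iff_not_dvd]
    intro hdvd
    have hpq : p ∣ Fintype.card F := hf ▸ dvd_pow_self p hf0
    have : p ∣ 1 := by
      have := Nat.dvd_sub hpq hdvd
      rwa [Nat.sub_sub_self (Fintype.card_pos (α := F))] at this
    exact hp.out.not_dvd_one this
  -- the line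
  obtain ⟨w₀, hw₀, hw₀S, g₀, hg₀⟩ := h.central_noncentral hA
  have hw₀A : w₀ ∈ centralizer (A : Set G) :=
    centralizer_le (SetLike.coe_subset_coe.2 hA.hA.1) hw₀S
  set v₀ := Multiplicative.toAdd (ψ ⟨w₀, hw₀⟩) with hv₀def
  have hv₀ : v₀ ≠ 0 := by
    intro h0
    exact hg₀ ((hψ ⟨w₀, hw₀⟩).1 (Multiplicative.toAdd.injective (h0.trans toAdd_one.symm)) g₀)
  obtain ⟨hstab, hline, htorus⟩ := line_data hv₀
  have hfix : ∀ a ∈ A, ∀ (w : W), (w : G) ∈ centralizer (A : Set G) →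
      (ρ a : Matrix (Fin 2) (Fin 2) F) *ᵥ Multiplicative.toAdd (ψ w) = Multiplicative.toAdd (ψ w) := by
    intro a ha w hw
    refine (heq a w w ?_).symm
    rw [mem_centralizer_iff.1 hw a ha, mul_inv_cancel_right]
  have hstabeq : ((A.map ρ : Subgroup (Matrix.SpecialLinearGroup (Fin 2) F)) : Set _) =
      {u : Matrix.SpecialLinearGroup (Fin 2) F | (u : Matrix (Fin 2) (Fin 2) F) *ᵥ v₀ = v₀} := by
    refine Set.eq_of_subset_of_ncard_le ?_ (hstab.trans ?_) (Set.toFinite _)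
    · rintro _ ⟨a, ha, rfl⟩
      exact hfix a ha ⟨w₀, hw₀⟩ hw₀A
    · rw [← Nat.card_coe_set_eq]
      exact le_of_eq (hq.trans (hker A).symm)
  have hlineA : ∀ w : W, (w : G) ∈ centralizer (A : Set G) →
      ∃ α : F, Multiplicative.toAdd (ψ w) = α • v₀ := by
    intro w hw
    refine hline _ fun u hu => ?_
    obtain ⟨a, ha, rfl⟩ : u ∈ ((A.map ρ : Subgroup _) : Set _) := hstabeq ▸ hu
    exact hfix a ha w hw
  -- the element
  obtain ⟨l, hl⟩ := IsCyclic.exists_generator (α := Fˣ)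
  obtain ⟨δ, hδv, hδo⟩ := htorus l
  obtain ⟨d₀, hd₀⟩ := hρ δ
  set e := (orderOf d₀).factorization p
  obtain ⟨m, hm⟩ := exists_pow_eq_self_of_coprime (x := δ) (n := p ^ e)
    ((hqcop.coprime_dvd_right (orderOf_dvd_of_pow_eq_one hδo)).pow_left e)
  set d := (d₀ ^ p ^ e) ^ m
  have hd : ρ d = δ := by rw [map_pow, map_pow, hd₀, hm]
  have hdp : (orderOf d).Coprime p := by
    refine Nat.Coprime.coprime_dvd_left (orderOf_pow_dvd _) ?_
    rw [orderOf_pow_of_dvd (pow_ne_zero _ hp.out.ne_zero) (Nat.ordProj_dvd _ _)]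
    exact (Nat.coprime_ordCompl hp.out (orderOf_pos d₀).ne').symm
  have hscale : ∀ (w w' : W) (α : F), (w' : G) = d * w * d⁻¹ →
      Multiplicative.toAdd (ψ w) = α • v₀ → Multiplicative.toAdd (ψ w') = (α * l) • v₀ := by
    intro w w' α hw hα
    rw [heq d w w' hw, hα, mulVec_smul, hd, hδv, smul_smul]
  have hAC : ∀ a ∈ A, d⁻¹ * a * d ∈ A ⊔ C ∧ d * a * d⁻¹ ∈ A ⊔ C := by
    intro a ha
    have hinv : ((δ⁻¹ : Matrix.SpecialLinearGroup (Fin 2) F) : Matrix (Fin 2) (Fin 2) F) *ᵥ v₀ =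
        (l : F)⁻¹ • v₀ := by
      have h1 := congrArg (fun v => (l : F)⁻¹ •
        (((δ⁻¹ : Matrix.SpecialLinearGroup (Fin 2) F) : Matrix (Fin 2) (Fin 2) F) *ᵥ v)) hδv
      simp only [mulVec_mulVec, ← Matrix.SpecialLinearGroup.coe_mul, inv_mul_cancel,
        Matrix.SpecialLinearGroup.coe_one, one_mulVec, mulVec_smul, smul_smul] at h1
      rw [inv_mul_cancel₀ l.ne_zero, one_smul] at h1
      exact h1.symm
    have hback : ∀ x : G, (ρ x : Matrix (Fin 2) (Fin 2) F) *ᵥ v₀ = v₀ → x ∈ A ⊔ C := by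
      intro x hx
      obtain ⟨b, hb, hbx⟩ : ρ x ∈ ((A.map ρ : Subgroup _) : Set _) := hstabeq ▸ hx
      have : b⁻¹ * x ∈ C := by rw [← hρC, MonoidHom.mem_ker, map_mul, map_inv, hbx, inv_mul_cancel]
      have := mul_mem_sup hb this
      rwa [mul_inv_cancel_left] at this
    have ha0 := hfix a ha ⟨w₀, hw₀⟩ hw₀A
    constructor
    · refine hback _ ?_
      simp only [map_mul, map_inv, hd, Matrix.SpecialLinearGroup.coe_mul, ← mulVec_mulVec, hδv,
        mulVec_smul]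
      rw [ha0, hinv, smul_smul, mul_inv_cancel₀ l.ne_zero, one_smul]
    · refine hback _ ?_
      simp only [map_mul, map_inv, hd, Matrix.SpecialLinearGroup.coe_mul, ← mulVec_mulVec, hinv,
        mulVec_smul]
      rw [ha0, hδv, smul_smul, inv_mul_cancel₀ l.ne_zero, one_smul]
  have hdM : d ∈ M := by
    refine h.mem_of_cj_le hA.hA hA.hAC ?_
    rintro _ ⟨a, ha, rfl⟩
    exact sup_le (hA.hA.1.trans h.le_M) (ker0_le_normalizer T) (hAC a ha).2
  -- the commutators
  let Y := W ⊓ centralizer (A : Set G)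
  have hYd : ∀ w ∈ Y, d * w * d⁻¹ ∈ Y := by
    intro w hw
    refine ⟨(omega_normal p T).conj_mem w hw.1 d, mem_centralizer_iff.2 fun a ha => ?_⟩
    have hle : A ⊔ C ≤ centralizer ({w} : Set G) := sup_le
      (fun b hb => mem_centralizer_singleton_iff.2 (mem_centralizer_iff.1 hw.2 b hb))
      (fun c hc => mem_centralizer_singleton_iff.2 (mem_centralizer_iff.1 (hC.symm ▸ hc) w hw.1).symm)
    have hcw := mem_centralizer_singleton_iff.1 (hle (hAC a ha).1)
    calc a * (d * w * d⁻¹) = d * (d⁻¹ * a * d * w) * d⁻¹ := by group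
      _ = d * (w * (d⁻¹ * a * d)) * d⁻¹ := by rw [hcw]
      _ = d * w * d⁻¹ * a := by group
  let U : Subgroup G :=
    { carrier := {u | ∃ w ∈ Y, u = d * w * d⁻¹ * w⁻¹}
      one_mem' := ⟨1, one_mem _, by group⟩
      mul_mem' := by
        rintro _ _ ⟨v, hv, rfl⟩ ⟨w, hw, rfl⟩
        refine ⟨v * w, mul_mem hv hw, ?_⟩
        have e1 : Commute v⁻¹ (d * w * d⁻¹ * w⁻¹) :=
          hWc _ (inv_mem hv.1) _ (mul_mem (hYd w hw).1 (inv_mem hw.1))
        calc d * v * d⁻¹ * v⁻¹ * (d * w * d⁻¹ * w⁻¹) = d * v * d⁻¹ * (v⁻¹ * (d * w * d⁻¹ * w⁻¹)) := by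
              group
          _ = d * v * d⁻¹ * ((d * w * d⁻¹ * w⁻¹) * v⁻¹) := by rw [e1.eq]
          _ = d * (v * w) * d⁻¹ * (v * w)⁻¹ := by group
      inv_mem' := by
        rintro _ ⟨w, hw, rfl⟩
        refine ⟨w⁻¹, inv_mem hw, ?_⟩
        have e1 : Commute w (d * w⁻¹ * d⁻¹) :=
          hWc _ hw.1 _ (hYd _ (inv_mem hw)).1
        calc (d * w * d⁻¹ * w⁻¹)⁻¹ = w * (d * w⁻¹ * d⁻¹) := by group
          _ = d * w⁻¹ * d⁻¹ * w⁻¹⁻¹ := by rw [e1.eq, inv_inv] }
  have hUmem : ∀ u ∈ U, ∃ hu : u ∈ W, ∃ α : F, Multiplicative.toAdd (ψ ⟨u, hu⟩) = α • v₀ ∧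
      (α = 0 → u = 1) := by
    rintro _ ⟨w, hw, rfl⟩
    have hdw := (omega_normal p T).conj_mem w hw.1 d
    refine ⟨mul_mem hdw (inv_mem hw.1), ?_⟩
    obtain ⟨α, hα⟩ := hlineA ⟨w, hw.1⟩ hw.2
    have h2 := hscale ⟨w, hw.1⟩ ⟨_, hdw⟩ α rfl hα
    refine ⟨α * l - α, ?_, fun h0 => ?_⟩
    · rw [show (⟨d * w * d⁻¹ * w⁻¹, mul_mem hdw (inv_mem hw.1)⟩ : W) =
        ⟨d * w * d⁻¹, hdw⟩ * (⟨w, hw.1⟩ : W)⁻¹ from rfl, map_mul, map_inv, toAdd_mul, toAdd_inv, h2,
        hα, sub_smul, sub_eq_add_neg]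
    · have hl1 : (l : F) ≠ 1 := by
        intro hl1
        have hl1' : l = 1 := Units.ext hl1
        have : ∀ u : Fˣ, u = 1 := fun u => by simpa [hl1'] using hl u
        haveI : Subsingleton Fˣ := ⟨fun a b => (this a).trans (this b).symm⟩
        have hc : Fintype.card Fˣ ≤ 1 := Fintype.card_le_one_iff_subsingleton.2 inferInstance
        rw [Fintype.card_units, hf] at hc
        have : 3 ≤ p ^ f := le_trans (by have := hp.out.two_le; omega) (Nat.le_self_pow hf0 p)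
        omega
      have hα0 : α = 0 := by
        have : α * ((l : F) - 1) = 0 := by rw [mul_sub, mul_one]; exact h0
        exact (mul_eq_zero.1 this).resolve_right (sub_ne_zero.2 hl1)
      rw [hα0, zero_smul] at hα
      have := (hψ ⟨w, hw.1⟩).1 (Multiplicative.toAdd.injective (hα.trans toAdd_one.symm)) d
      rw [this, mul_inv_cancel]
  have hUd : ∀ u ∈ U, d * u * d⁻¹ ∈ U := by
    rintro _ ⟨w, hw, rfl⟩
    exact ⟨d * w * d⁻¹, hYd w hw, by group⟩
  refine ⟨d, mem_top d, hdM, hdp, ?_, U, fun t ht => ?_, fun a ha b hb _ _ ha1 hb1 => ?_⟩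
  · by_contra hall
    push Not at hall
    refine h.hne (eq_top_iff.2 fun g _ => centralizer_le_normalizer _ (mem_centralizer_iff.2 fun t ht => ?_))
    obtain ⟨k, hk, z, hz, hzS, hzk⟩ := h.exists_norm hA ht
    have hdt : Commute d (t ^ k) := Commute.pow_right (mul_inv_eq_iff_eq_mul.1 (hall t ht)) k
    have hdz : Commute d z := by simpa using (hzk d).mul_right hdt.inv_right
    have hzA : z ∈ centralizer (A : Set G) := centralizer_le (SetLike.coe_subset_coe.2 hA.hA.1) hzS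
    obtain ⟨α, hα⟩ := hlineA ⟨z, hz⟩ hzA
    have h2 := hscale ⟨z, hz⟩ ⟨z, hz⟩ α (by rw [hdz.eq, mul_inv_cancel_right]) hα
    rw [hα] at h2
    have hl1 : α = α * l := smul_left_injective F hv₀ h2
    have hz1 : ∀ x : G, x * z * x⁻¹ = z := by
      by_cases hα0 : α = 0
      · rw [hα0, zero_smul] at hα
        exact (hψ ⟨z, hz⟩).1 (Multiplicative.toAdd.injective (hα.trans toAdd_one.symm))
      · exfalso
        have : (l : F) = 1 := by
          have := mul_left_cancel₀ hα0 ((mul_one α).trans hl1)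
          exact this.symm
        obtain ⟨u, hu⟩ : ∃ u : Fˣ, u ≠ 1 := by
          by_contra hno
          push Not at hno
          haveI : Subsingleton Fˣ := ⟨fun a b => (hno a).trans (hno b).symm⟩
          have hc : Fintype.card Fˣ ≤ 1 := Fintype.card_le_one_iff_subsingleton.2 inferInstance
          rw [Fintype.card_units, hf] at hc
          have : 3 ≤ p ^ f := le_trans (by have := hp.out.two_le; omega) (Nat.le_self_pow hf0 p)
          omega
        have hl' : l = 1 := Units.ext this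
        exact hu (by simpa [hl'] using hl u)
    have h3 : Commute g z := mul_inv_eq_iff_eq_mul.1 (hz1 g)
    have h4 : Commute g (t ^ k) := by simpa using h3.inv_right.mul_right (hzk g)
    obtain ⟨i, hi⟩ := mem_zpowers_pow hk
    rw [← hi]
    exact (h4.zpow_right i).eq.symm
  · obtain ⟨k, hk, z, hz, hzS, hzk⟩ := h.exists_norm hA ht
    set x := d * t * d⁻¹ * t⁻¹ with hx
    have hzA : z⁻¹ ∈ Y :=
      ⟨Subgroup.inv_mem _ hz, Subgroup.inv_mem _ (centralizer_le (SetLike.coe_subset_coe.2 hA.hA.1) hzS)⟩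
    have htd : d * t * d⁻¹ ∈ T := (mem_normalizer_iff.1 hdM t).1 ht
    have hxk : x ^ k = d * z⁻¹ * d⁻¹ * z⁻¹⁻¹ := by
      have hc : Commute (d * t * d⁻¹) t⁻¹ :=
        (h.hVc _ (h.hTV htd) _ (h.hTV (inv_mem ht)))
      have e1 : d * (z * t ^ k) * d⁻¹ = z * t ^ k := by rw [(hzk d).eq, mul_inv_cancel_right]
      rw [hx, hc.mul_pow, conj_pow, inv_pow]
      calc d * t ^ k * d⁻¹ * (t ^ k)⁻¹ = d * z⁻¹ * d⁻¹ * (d * (z * t ^ k) * d⁻¹) * (t ^ k)⁻¹ := by group
        _ = d * z⁻¹ * d⁻¹ * (z * t ^ k) * (t ^ k)⁻¹ := by rw [e1]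
        _ = d * z⁻¹ * d⁻¹ * z⁻¹⁻¹ := by group
    have hxU : x ^ k ∈ U := hxk ▸ ⟨z⁻¹, hzA, rfl⟩
    have hcop : k.Coprime (orderOf x) := by
      refine Nat.Coprime.coprime_dvd_right ?_ hk
      refine orderOf_dvd_of_pow_eq_one ?_
      rw [hx, (h.hVc _ (h.hTV htd) _ (h.hTV (inv_mem ht))).mul_pow, conj_pow, inv_pow,
        pow_orderOf_eq_one, mul_one, mul_inv_cancel, inv_one, one_mul]
    exact (zpowers_le.2 hxU) (mem_zpowers_pow hcop)
  · obtain ⟨haW, α, hα, hα0⟩ := hUmem a ha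
    obtain ⟨hbW, β, hβ, hβ0⟩ := hUmem b hb
    have hαne : α ≠ 0 := fun h0 => ha1 (hα0 h0)
    have hβne : β ≠ 0 := fun h0 => hb1 (hβ0 h0)
    obtain ⟨i, hi⟩ : ∃ i : ℕ, l ^ i = Units.mk0 (β / α) (div_ne_zero hβne hαne) :=
      (mem_powers_iff_mem_zpowers.2 (hl _))
    refine ⟨i, ?_⟩
    have hit : ∀ j : ℕ, d ^ j * a * (d ^ j)⁻¹ ∈ U ∧ ∀ hj : d ^ j * a * (d ^ j)⁻¹ ∈ W,
        Multiplicative.toAdd (ψ ⟨_, hj⟩) = (α * (l : F) ^ j) • v₀ := by
      intro j
      induction j with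
      | zero => exact ⟨by simpa using ha, fun hj => by simpa using hα⟩
      | succ j ih =>
        have e1 : d ^ (j + 1) * a * (d ^ (j + 1))⁻¹ = d * (d ^ j * a * (d ^ j)⁻¹) * d⁻¹ := by
          simp only [pow_succ', _root_.mul_inv_rev, mul_assoc]
        refine ⟨e1 ▸ hUd _ ih.1, fun hj => ?_⟩
        obtain ⟨hW', -⟩ := hUmem _ ih.1
        rw [hscale ⟨_, hW'⟩ ⟨_, hj⟩ _ e1 (ih.2 hW'), pow_succ, mul_assoc]
    obtain ⟨hiU, hiψ⟩ := hit i
    obtain ⟨hq', γ, hγ, hγ0⟩ := hUmem _ (mul_mem hiU (inv_mem hb))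
    obtain ⟨hiW, -⟩ := hUmem _ hiU
    have hli : α * (l : F) ^ i = β := by
      have := congrArg Units.val hi
      rw [Units.val_pow_eq_pow_val, Units.val_mk0] at this
      rw [this, mul_div_cancel₀ _ hαne]
    have hzero : γ = 0 := by
      have h1 : Multiplicative.toAdd (ψ ⟨_, hq'⟩) = (0 : Fin 2 → F) := by
        rw [show (⟨_, hq'⟩ : W) = ⟨_, hiW⟩ * (⟨b, hbW⟩ : W)⁻¹ from rfl, map_mul, map_inv, toAdd_mul,
          toAdd_inv, hiψ hiW, hβ, hli, add_neg_cancel]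
      rw [hγ] at h1
      exact (smul_eq_zero.1 h1).resolve_right hv₀
    exact mul_inv_eq_one.1 (hγ0 hzero)

end Cfsg.Agent.H35.CentralAutomizer
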