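import Cfsg.Agent.H72.LocalFixed
import Cfsg.Agent.H94.SatBasic

set_option autoImplicit false

/-!
General tools for the group theorem behind the cyclic automizer of a central subgroup.
-/

namespace Cfsg.Agent.H35.CentralAutomizer

open Subgroup

variable {G : Type*} [Group G]

/-- The conjugate `g A g⁻¹`. -/
abbrev cj (g : G) (A : Subgroup G) : Subgroup G := A.map (MulAut.conj g).toMonoidHom

theorem mem_cj {g x : G} {A : Subgroup G} : x ∈ cj g A ↔ g⁻¹ * x * g ∈ A := by
  constructor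
  · rintro ⟨a, ha, rfl⟩
    simpa [mul_assoc] using ha
  · exact fun h => ⟨_, h, by simp [mul_assoc]⟩

theorem conj_mem_cj {g a : G} {A : Subgroup G} (ha : a ∈ A) : g * a * g⁻¹ ∈ cj g A := ⟨a, ha, rfl⟩

theorem cj_cj (g k : G) (A : Subgroup G) : cj g (cj k A) = cj (g * k) A := by
  ext x; simp [mem_cj, mul_assoc]

theorem cj_mono (g : G) {A B : Subgroup G} (h : A ≤ B) : cj g A ≤ cj g B := map_mono h

theorem card_cj (g : G) (A : Subgroup G) : Nat.card (cj g A) = Nat.card A :=
  card_map_of_injective (MulAut.conj g).injective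

theorem isPGroup_cj {p : ℕ} (g : G) {A : Subgroup G} (h : IsPGroup p A) : IsPGroup p (cj g A) :=
  h.map _

theorem cj_le_of_mem {g : G} {A K : Subgroup G} (hg : g ∈ K) (hA : A ≤ K) : cj g A ≤ K := by
  rintro _ ⟨a, ha, rfl⟩
  exact K.mul_mem (K.mul_mem hg (hA ha)) (K.inv_mem hg)

theorem cj_le_normal {g : G} {A N : Subgroup G} (hN : N.Normal) (hA : A ≤ N) : cj g A ≤ N := by
  rintro _ ⟨a, ha, rfl⟩
  exact hN.conj_mem a (hA ha) g

theorem card_lt_of_lt [Finite G] {A B : Subgroup G} (h : A < B) : Nat.card A < Nat.card B :=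
  lt_of_le_of_ne (card_le_of_le h.le) fun he => h.ne (eq_of_le_of_card_ge h.le he.ge)

theorem cj_inf_normalizer (g : G) (A R : Subgroup G) :
    cj g (A ⊓ normalizer (R : Set G)) = cj g A ⊓ normalizer (cj g R : Set G) := by
  rw [cj, map_inf _ _ _ (MulAut.conj g).injective, map_normalizer_eq_of_bijective]
  exact (MulAut.conj g).bijective

/-- `Q` is a maximal `p`-subgroup of `K`. -/
def IsMaxPIn (p : ℕ) (K Q : Subgroup G) : Prop :=
  Q ≤ K ∧ IsPGroup p Q ∧ ∀ R : Subgroup G, IsPGroup p R → Q ≤ R → R ≤ K → R = Q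

variable {p : ℕ} [hp : Fact p.Prime] [Finite G]

omit hp in
theorem exists_isMaxPIn {K B : Subgroup G} (hB : IsPGroup p B) (hBK : B ≤ K) :
    ∃ Q, IsMaxPIn p K Q ∧ B ≤ Q := by
  obtain ⟨Q, ⟨h1, h2, h3⟩, hmax⟩ := Set.Finite.exists_maximalFor (fun R : Subgroup G => Nat.card R)
    {R : Subgroup G | IsPGroup p R ∧ B ≤ R ∧ R ≤ K} (Set.toFinite _) ⟨B, hB, le_rfl, hBK⟩
  exact ⟨Q, ⟨h3, h1, fun R hR hQR hRK =>
    (eq_of_le_of_card_ge hQR (hmax ⟨hR, h2.trans hQR, hRK⟩ (card_le_of_le hQR))).symm⟩, h2⟩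

theorem IsMaxPIn.exists_conj_le {K Q : Subgroup G} (hQ : IsMaxPIn p K Q) {R : Subgroup G}
    (hR : IsPGroup p R) (hRK : R ≤ K) : ∃ m ∈ K, cj m R ≤ Q := by
  let P : Sylow p K :=
    ⟨Q.subgroupOf K, hQ.2.1.comap_subtype, fun {R'} hR' hle => by
      apply map_injective K.subtype_injective
      rw [map_subgroupOf_eq_of_le hQ.1]
      refine hQ.2.2 _ (hR'.map _) ?_ (map_subtype_le _)
      rw [← map_subgroupOf_eq_of_le hQ.1]
      exact map_mono hle⟩
  obtain ⟨P', hP'⟩ := (hR.comap_subtype : IsPGroup p (R.subgroupOf K)).exists_le_sylow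
  obtain ⟨m, hm⟩ := MulAction.exists_smul_eq K P' P
  refine ⟨m, m.2, ?_⟩
  rintro _ ⟨x, hx, rfl⟩
  have : m * ⟨x, hRK hx⟩ * m⁻¹ ∈ (m • P' : Sylow p K) := ⟨_, hP' hx, rfl⟩
  rw [hm] at this
  exact this

theorem IsMaxPIn.inf_normal {S : Subgroup G} (hS : IsMaxPIn p ⊤ S) (K : Subgroup G) [hK : K.Normal] :
    IsMaxPIn p K (S ⊓ K) := by
  refine ⟨inf_le_right, hS.2.1.to_le inf_le_left, fun R hR hle hRK => ?_⟩
  obtain ⟨m, -, hm⟩ := hS.exists_conj_le hR le_top
  refine (eq_of_le_of_card_ge hle ?_).symm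
  rw [← card_cj m R]
  exact card_le_of_le (le_inf hm (cj_le_normal hK hRK))

/-- The Frattini argument. -/
theorem IsMaxPIn.normalizer_sup_eq_top {S : Subgroup G} (hS : IsMaxPIn p ⊤ S) (K : Subgroup G)
    [hK : K.Normal] : normalizer ((S ⊓ K : Subgroup G) : Set G) ⊔ K = ⊤ := by
  obtain ⟨hle, hp', hmax⟩ := hS.inf_normal K
  let P : Sylow p K :=
    ⟨(S ⊓ K).subgroupOf K, hp'.comap_subtype, fun {R'} hR' hle' => by
      apply map_injective K.subtype_injective
      rw [map_subgroupOf_eq_of_le hle]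
      refine hmax _ (hR'.map _) ?_ (map_subtype_le _)
      rw [← map_subgroupOf_eq_of_le hle]
      exact map_mono hle'⟩
  have h := Sylow.normalizer_sup_eq_top P
  rwa [show (P : Subgroup K).map K.subtype = S ⊓ K from map_subgroupOf_eq_of_le hle] at h

omit [Finite G] in
/-- A proper subgroup of a `p`-group is properly contained in its normalizer. -/
theorem lt_inf_normalizer [Finite G] {Q P : Subgroup G} (hQ : IsPGroup p Q) (h : P < Q) :
    P < Q ⊓ normalizer (P : Set G) :=
  H94.lt_normalizerIn hQ h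

/-- An element of order prime to `p` that centralises the elements of order `p` of an abelian `p`-group
it normalises centralises all of it. -/
theorem commute_of_coprime {V : Subgroup G} [hVn : V.Normal] (hVc : ∀ a ∈ V, ∀ b ∈ V, Commute a b)
    (hVp : IsPGroup p V) {x : G} (hx : (orderOf x).Coprime p)
    (h : ∀ w ∈ V, w ^ p = 1 → Commute x w) {v : G} (hv : v ∈ V) : Commute x v := by
  have key : ∀ k : ℕ, ∀ v ∈ V, v ^ p ^ k = 1 → x * v * x⁻¹ = v := by
    intro k
    induction k with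
    | zero => intro v _ h1; simp at h1; simp [h1]
    | succ k ih =>
      intro v hv h1
      set w := x * v * x⁻¹ * v⁻¹ with hw
      have hxv : x * v * x⁻¹ ∈ V := hVn.conj_mem v hv x
      have hwV : w ∈ V := V.mul_mem hxv (V.inv_mem hv)
      have hwp : w ^ p = 1 := by
        rw [hw, (hVc _ hxv _ (V.inv_mem hv)).mul_pow, conj_pow, inv_pow,
          ih (v ^ p) (V.pow_mem hv p) (by rw [← pow_mul, ← pow_succ']; exact h1), mul_inv_cancel]
      have hxw : x * w = w * x := h w hwV hwp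
      have hiter : ∀ i : ℕ, x ^ i * v * (x ^ i)⁻¹ = w ^ i * v := by
        intro i
        induction i with
        | zero => simp
        | succ i ihi =>
          have e : x * v * x⁻¹ = w * v := by rw [hw, inv_mul_cancel_right]
          have e2 : x * w ^ i = w ^ i * x := (Commute.pow_right hxw i)
          calc x ^ (i + 1) * v * (x ^ (i + 1))⁻¹ = x * (x ^ i * v * (x ^ i)⁻¹) * x⁻¹ := by
                simp only [pow_succ', mul_inv_rev, mul_assoc]
            _ = (x * w ^ i) * v * x⁻¹ := by rw [ihi]; simp only [mul_assoc]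
            _ = w ^ i * (x * v * x⁻¹) := by rw [e2]; simp only [mul_assoc]
            _ = w ^ (i + 1) * v := by rw [e, ← mul_assoc, pow_succ]
      have h2 := hiter (orderOf x)
      rw [pow_orderOf_eq_one, inv_one, mul_one, one_mul, eq_comm, mul_eq_right] at h2
      have hw1 : w = 1 := by
        have := Nat.dvd_gcd (orderOf_dvd_of_pow_eq_one h2) (orderOf_dvd_of_pow_eq_one hwp)
        rw [Nat.Coprime.gcd_eq_one hx] at this
        exact orderOf_eq_one_iff.1 (Nat.dvd_one.1 this)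
      rw [hw] at hw1
      exact mul_inv_eq_one.1 hw1
  obtain ⟨k, hk⟩ := hVp ⟨v, hv⟩
  exact mul_inv_eq_iff_eq_mul.1 (key k v hv (congrArg Subtype.val hk))

end Cfsg.Agent.H35.CentralAutomizer
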