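import Cfsg.Agent.H35.CentralAutomizer.Automizer

set_option autoImplicit false

/-!
If `N(J(S))` normalises `T ≤ Z(S)` but the whole group does not, some element of order prime to `p`
normalises `T` and is transitive on its non-trivial commutators (for `p` odd).
-/

namespace Cfsg.Agent.H35.CentralAutomizer

open Subgroup

universe u

theorem mem_normalizer_map_iff {G H : Type*} [Group G] [Group H] {f : G →* H}
    (hf : Function.Injective f) {A : Subgroup G} {x : G} :
    f x ∈ normalizer (A.map f : Set H) ↔ x ∈ normalizer (A : Set G) := by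
  refine ⟨fun h => mem_normalizer_iff.2 fun y => ?_, fun h => le_normalizer_map f ⟨x, h, rfl⟩⟩
  have := mem_normalizer_iff.1 h (f y)
  rwa [← map_inv, ← map_mul, ← map_mul, mem_map_iff_mem hf, mem_map_iff_mem hf] at this

/-- The group theorem. -/
theorem hasLineElement {p : ℕ} [Fact p.Prime] (hodd : p ≠ 2) (G : Type u) [Group G] [Finite G]
    (S T V : Subgroup G) (hS : IsMaxPIn p ⊤ S) (hTS : T ≤ S) (hTC : S ≤ centralizer (T : Set G))
    (hTV : T ≤ V) (hVn : V.Normal) (hVc : ∀ a ∈ V, ∀ b ∈ V, Commute a b) (hVp : IsPGroup p V)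
    (hJ : normalizer (Cfsg.thompsonSubgroupAOf S : Set G) ≤ normalizer (T : Set G))
    (hne : normalizer (T : Set G) ≠ ⊤) : HasLineElement p ⊤ T := by
  induction h : Nat.card G using Nat.strong_induction_on generalizing G with
  | _ n ih =>
  subst h
  by_cases hmin : ∀ K : Subgroup G, K ≠ ⊤ → ∀ S' : Subgroup G, IsMaxPIn p K S' → T ≤ S' →
      S' ≤ centralizer (T : Set G) →
      K ⊓ normalizer (Cfsg.thompsonSubgroupAOf S' : Set G) ≤ normalizer (T : Set G) →
      K ≤ normalizer (T : Set G)
  · exact (MinSetup.mk hS hTS hTC hTV hVn hVc hVp hJ hne hmin).hasLineElement hodd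
  push Not at hmin
  obtain ⟨K, hK, S', hS', hTS', hTC', hJ', hKM⟩ := hmin
  have hS'K := hS'.1
  have hTK : T ≤ K := hTS'.trans hS'K
  have hcard : Nat.card K < Nat.card G :=
    lt_of_le_of_ne (card_le_card_group K) fun he => hK (eq_top_of_card_eq K he)
  have hTe : (T.subgroupOf K).map K.subtype = T := map_subgroupOf_eq_of_le hTK
  have hSe : (S'.subgroupOf K).map K.subtype = S' := map_subgroupOf_eq_of_le hS'K
  have hmem : ∀ x : K, (x : G) ∈ normalizer (T : Set G) → x ∈ normalizer (T.subgroupOf K : Set K) :=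
    fun x hx => (mem_normalizer_map_iff K.subtype_injective).1
      (show K.subtype x ∈ normalizer ((T.subgroupOf K).map K.subtype : Set G) by rw [hTe]; exact hx)
  obtain ⟨d, -, hd, hdp, ⟨t, ht, htne⟩, U, hU, htrans⟩ := ih _ hcard K (S'.subgroupOf K)
    (T.subgroupOf K) (V.subgroupOf K)
    ⟨le_top, hS'.2.1.comap_subtype, fun R hR hle _ => by
      refine map_injective K.subtype_injective ?_
      rw [hSe]
      exact hS'.2.2 _ (hR.map _) (hSe.ge.trans (map_mono hle)) (map_subtype_le _)⟩
    (fun x hx => hTS' hx)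
    (fun x hx => mem_centralizer_iff.2 fun y hy =>
      Subtype.ext (mem_centralizer_iff.1 (hTC' hx) (y : G) hy))
    (fun x hx => hTV hx) (hVn.subgroupOf K)
    (fun a ha b hb => Subtype.ext (hVc _ ha _ hb).eq)
    (hVp.comap_subtype)
    (fun x hx => hmem x (hJ' ⟨x.2, by
      have := (mem_normalizer_map_iff K.subtype_injective).2 hx
      rwa [H72.map_thompsonSubgroupAOf _ _ K.subtype_injective.injOn, hSe] at this⟩))
    (fun htop => hKM fun x hx => by
      have := (mem_normalizer_map_iff K.subtype_injective).2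
        (show (⟨x, hx⟩ : K) ∈ normalizer (T.subgroupOf K : Set K) by rw [htop]; exact mem_top _)
      rwa [hTe] at this) rfl
  refine ⟨d, mem_top _, ?_, ?_, ⟨t, ht, fun h => htne (Subtype.ext h)⟩, U.map K.subtype,
    fun s hs => ?_, ?_⟩
  · have := (mem_normalizer_map_iff K.subtype_injective).2 hd
    rwa [hTe] at this
  · rwa [← orderOf_injective K.subtype K.subtype_injective d] at hdp
  · exact ⟨_, hU ⟨s, hTK hs⟩ hs, rfl⟩
  · rintro _ ⟨a, ha, rfl⟩ _ ⟨b, hb, rfl⟩ haT hbT ha1 hb1
    obtain ⟨i, hi⟩ := htrans a ha b hb haT hbT (fun h => ha1 (by rw [h]; rfl))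
      (fun h => hb1 (by rw [h]; rfl))
    exact ⟨i, congrArg (Subtype.val) hi⟩

end Cfsg.Agent.H35.CentralAutomizer
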